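import Cfsg.Agent.H659.Rs.Box2
import Cfsg.Agent.H955.Sp
import Cfsg.Agent.H934.OutB
import Cfsg.Agent.S0814

/-!
# S3691, `PSp_2m(2^f)`: the pair of an exact factorization (helper557, task SP68-10)

* `mem_preG`, `preG_le`, `card_preG`, `card_T`, `card_outT`
* `boxPair : BoxPair`
-/

set_option autoImplicit false
set_option linter.unusedSectionVars false

namespace Cfsg.Agent.H557.Rs

open Cfsg Cfsg.Geo Module Subgroup Cfsg.Agent.H454.Reg Cfsg.Agent.H925.Rs Cfsg.Agent.H659.Rs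
open Cfsg.Agent.LieClassical.OrthFinite (glEquiv)
open Cfsg.Agent.ClassicalGeometry.SympBasic
open scoped MatrixGroups Matrix

universe u

section

variable {G : Type u} [Group G] {T : Subgroup G} {F : Type} [Field F] {m : ℕ} {e : T ≃* PSp m F} {X Y : Subgroup G}

theorem mem_preG {x : GL (Fin m ⊕ Fin m) F} : x ∈ preG e X ↔ glEquiv (Fin m ⊕ Fin m) F x ∈ preS e X := Iff.rfl

theorem mem_spGL_iff {x : GL (Fin m ⊕ Fin m) F} :
    x ∈ spGL m F ↔ glEquiv (Fin m ⊕ Fin m) F x ∈ Isos (sympBilin m F) := Iff.rfl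

theorem preG_le : preG e X ≤ spGL m F := fun _ hx => mem_spGL_iff.2 (preS_le (mem_preG.1 hx))

theorem card_comap_gl (K : Subgroup ((Fin m ⊕ Fin m → F) ≃ₗ[F] (Fin m ⊕ Fin m → F))) :
    Nat.card (K.comap (glEquiv (Fin m ⊕ Fin m) F).toMonoidHom) = Nat.card K := by
  rw [card_comap_of_surj K (f := (glEquiv (Fin m ⊕ Fin m) F).toMonoidHom) (MulEquiv.surjective _)]
  have h : ((glEquiv (Fin m ⊕ Fin m) F).toMonoidHom).ker = ⊥ :=
    (MonoidHom.ker_eq_bot_iff _).2 (MulEquiv.injective (glEquiv (Fin m ⊕ Fin m) F))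
  rw [h, Subgroup.card_bot, mul_one]

theorem card_preG (e : T ≃* PSp m F) (X : Subgroup G) : Nat.card (preG e X) = Nat.card (preS e X) := card_comap_gl _

theorem card_spGL_eq : Nat.card (spGL m F) = Nat.card (Isos (sympBilin m F)) := by
  have h : spGL m F = (Isos (sympBilin m F)).comap (glEquiv (Fin m ⊕ Fin m) F).toMonoidHom := by
    ext x
    exact mem_spGL_iff
  rw [h, card_comap_gl]

/-- scalar isometries in characteristic two -/
theorem eq_one_of_scalar (hm : 1 ≤ m) (h2 : (2 : F) = 0) {x : Isos (sympBilin m F)} {a : F} (h : ∀ v, x.1 v = a • v) :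
    x = 1 := by
  have h1 := x.2 (Pi.single (Sum.inr ⟨0, hm⟩) 1) (Pi.single (Sum.inl ⟨0, hm⟩) 1)
  rw [h, h, sympBilin_apply, sympBilin_apply, sympForm_smul_left, sympForm_smul_right, sympForm_single_inr_left,
    Pi.single_eq_same, mul_one] at h1
  have h3 : (a - 1) * (a - 1) = 0 := by
    have h4 : (a - 1) * (a - 1) = (a * a - 1) + 2 * (1 - a) := by ring
    rw [h4, h1, h2]; ring
  have h5 : a = 1 := sub_eq_zero.1 (mul_self_eq_zero.1 h3)
  apply Subtype.ext
  apply LinearEquiv.ext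
  intro v
  rw [h, h5, one_smul]
  rfl

theorem ker_eq (hm : 1 ≤ m) (h2 : (2 : F) = 0) (e : T ≃* PSp m F) : (prS e).ker = ⊥ := by
  rw [Subgroup.eq_bot_iff_forall]
  intro x hx
  obtain ⟨a, ha⟩ := prS_eq_one (MonoidHom.mem_ker.1 hx)
  exact eq_one_of_scalar hm h2 ha

theorem card_preG_eq (hm : 1 ≤ m) (h2 : (2 : F) = 0) (e : T ≃* PSp m F) (X : Subgroup G) :
    Nat.card (preG e X) = Nat.card (X.subgroupOf T) := by
  rw [card_preG, card_preS, ker_eq hm h2, Subgroup.card_bot, mul_one]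

theorem card_T (hm : 1 ≤ m) (h2 : (2 : F) = 0) (e : T ≃* PSp m F) : Nat.card (spGL m F) = Nat.card T := by
  rw [card_spGL_eq]
  exact Nat.card_congr (Equiv.ofBijective (prS e)
    ⟨(MonoidHom.ker_eq_bot_iff _).1 (ker_eq hm h2 e), prS_surjective e⟩)

theorem two_eq_zero {F : Type} [Field F] [Fintype F] {f : ℕ} (hf : 1 ≤ f) (hF : Fintype.card F = 2 ^ f) : (2 : F) = 0 := by
  have h1 : ((Fintype.card F : ℕ) : F) = 0 := FiniteField.cast_card_eq_zero F
  rw [hF, Nat.cast_pow, Nat.cast_ofNat] at h1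
  exact pow_eq_zero_iff (by omega) |>.1 h1

/-- `|Out T| = f` -/
theorem card_outT {F : Type} [Field F] [Fintype F] {m f : ℕ} (hm : 3 ≤ m) (hf : 1 ≤ f) (hF : Fintype.card F = 2 ^ f)
    {T : Type u} [Group T] [Finite T] (hs : IsSimpleGroup T) (hna : ¬ IsMulCommutative T) (e : T ≃* PSp m F) :
    Nat.card (Cfsg.Out T) = f := by
  have h2 : Fact (Nat.Prime 2) := ⟨Nat.prime_two⟩
  have h1 := Cfsg.Agent.S0814.result (F := F) 2 f hf hF m (by omega) (fun h => by omega)
  rw [if_neg (by omega), one_mul] at h1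
  have h3 : Nat.gcd 2 (2 ^ f - 1) = 1 := by
    have h4 : Odd (2 ^ f - 1) := by
      obtain ⟨k, rfl⟩ : ∃ k, f = k + 1 := ⟨f - 1, by omega⟩
      have h5 : 1 ≤ 2 ^ k := Nat.one_le_two_pow
      refine ⟨2 ^ k - 1, ?_⟩
      rw [pow_succ]
      omega
    exact Nat.coprime_two_left.2 h4
  rw [h3, one_mul] at h1
  have h6 : IsSimpleGroup (PSp m F) := (MulEquiv.isSimpleGroup_congr e).1 hs
  have h7 : ¬ IsMulCommutative (PSp m F) := by
    intro h
    apply hna
    refine ⟨⟨fun a b => e.injective ?_⟩⟩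
    rw [map_mul, map_mul]
    exact h.is_comm.comm _ _
  have hfin : Finite (PSp m F) := Finite.of_equiv T e.toEquiv
  rw [H934.OutB.card_out_congr e]
  exact H934.OutB.card_out_of_aut h7 h1

end

/-- **the pair of an exact factorization** -/
theorem boxPair : BoxPair.{u} := by
  intro G _ _ F _ _ m f hm hf hF T X Y e h
  have h2 : (2 : F) = 0 := two_eq_zero hf hF
  have hne : ∀ X : Subgroup G, ¬ T ≤ X → preG e X ≠ spGL m F := by
    intro X hX heq
    apply not_le_preS (e := e) hX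
    intro x hx
    have h3 : (glEquiv (Fin m ⊕ Fin m) F).symm x ∈ spGL m F := by
      rw [mem_spGL_iff, MulEquiv.apply_symm_apply]; exact hx
    rw [← heq, mem_preG, MulEquiv.apply_symm_apply] at h3
    exact h3
  refine ⟨preG_le, preG_le, hne X h.not_le_left, hne Y h.not_le_right, ?_, ?_⟩
  · obtain ⟨c, -, hc, hc2⟩ := h.card0
    have hs := h.simple
    rw [card_outT hm hf hF h.simple h.nonab e] at hc
    refine ⟨c, hc, ?_⟩
    rw [card_preG_eq (by omega) h2, card_preG_eq (by omega) h2, card_T (by omega) h2 e, hc2]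
  · intro x hx g hg hgx
    obtain ⟨a, ha⟩ := not_conj h (mem_preG.1 hx) (mem_spGL_iff.1 hg) (by
      have h3 := mem_preG.1 hgx
      rwa [map_mul, map_mul, map_inv] at h3)
    have h4 := eq_one_of_scalar (x := ⟨_, mem_spGL_iff.1 (preG_le hx)⟩) (by omega) h2 ha
    have h5 : glEquiv (Fin m ⊕ Fin m) F x = 1 := congrArg Subtype.val h4
    exact (MulEquiv.map_eq_one_iff _).1 h5

end Cfsg.Agent.H557.Rs
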