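import Cfsg.Agent.H557.Rs.Pair
import Cfsg.Agent.H454.Reg.NotLe
import Cfsg.Agent.S2141

/-!
# S3691, `PSp_6(2^f)`, `PSp_8(2^f)`: the bounds for `f` (helper557, task SP68-10)

`boxSize : BoxSize`
-/

set_option autoImplicit false
set_option linter.unusedSectionVars false

namespace Cfsg.Agent.H557.Rs

open Cfsg Cfsg.Geo Module Subgroup Cfsg.Agent.H454.Reg Cfsg.Agent.H925.Rs Cfsg.Agent.H659.Rs

universe u

/-- the bound: `P c |B| ≤ f |T|` -/
theorem size_bound {G : Type u} [Group G] [Finite G] {F : Type} [Field F] [Fintype F] {m f : ℕ} (hm : 3 ≤ m) (hf : 1 ≤ f)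
    (hF : Fintype.card F = 2 ^ f) {T H B : Subgroup G} (h : Ex T H B) (e : T ≃* PSp m F) :
    (3 * Nat.factorial 29 < Nat.card (spGL m F)) ∧
    (2 ≤ f → ((2 ^ f) ^ (2 * m) - 1) / (2 ^ f - 1) * (3 * Nat.factorial 29) < f * Nat.card (spGL m F)) := by
  have h2 : (2 : F) = 0 := two_eq_zero hf hF
  have hT := card_T (by omega) h2 e
  refine ⟨by rw [hT]; exact h.large_socle, fun hf2 => ?_⟩
  have hfac := h.toFac
  obtain ⟨c, -, hc, hc2⟩ := hfac.card0
  rw [card_outT hm hf hF h.simple h.nonab e] at hc
  have hmul := h.card_mul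
  have h1 := (B.subgroupOf T).card_mul_index
  have hYpos : 0 < Nat.card (B.subgroupOf T) := Nat.card_pos
  have hidx : (B.subgroupOf T).index = Nat.card (H.subgroupOf T) * c := by
    apply Nat.eq_of_mul_eq_mul_left hYpos
    rw [h1, ← hc2]
    ring
  have hmin := (Cfsg.Agent.S2141.result (F := F) hF m (by omega) (by
    have : 2 ^ 2 ≤ 2 ^ f := Nat.pow_le_pow_right (by norm_num) hf2
    omega) (by rintro ⟨h3, -⟩; omega)).1 ((B.subgroupOf T).map e.toMonoidHom) (by
      intro h3
      apply hfac.ne_top_right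
      rw [eq_top_iff]
      intro x _
      have h4 : e x ∈ (B.subgroupOf T).map e.toMonoidHom := by rw [h3]; trivial
      obtain ⟨y, hy, hyx⟩ := h4
      have h5 : y = x := e.injective hyx
      rw [← h5]; exact hy)
  have h6 : ((B.subgroupOf T).map e.toMonoidHom).index = (B.subgroupOf T).index := Subgroup.index_map_equiv _ e
  rw [h6, hidx] at hmin
  have hcf : c ≤ f := Nat.le_of_dvd (by omega) hc
  have hB := h.large
  rw [hT, ← hmul]
  have hXpos : 0 < Nat.card (H.subgroupOf T) := Nat.card_pos
  have h0 : 0 < Nat.card (H.subgroupOf T) * f := Nat.mul_pos hXpos (by omega)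
  calc ((2 ^ f) ^ (2 * m) - 1) / (2 ^ f - 1) * (3 * Nat.factorial 29)
      ≤ (Nat.card (H.subgroupOf T) * f) * (3 * Nat.factorial 29) :=
        Nat.mul_le_mul_right _ (hmin.trans (Nat.mul_le_mul_left _ hcf))
    _ < (Nat.card (H.subgroupOf T) * f) * Nat.card B := Nat.mul_lt_mul_of_pos_left hB h0
    _ = f * (Nat.card (H.subgroupOf T) * Nat.card B) := by ring

/-- **the bounds for `f`** -/
theorem boxSize : BoxSize.{u} := by
  intro G _ _ F _ _ m f hF T H B h he
  obtain ⟨e⟩ := he
  have hf : 1 ≤ f := by
    by_contra hcon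
    obtain rfl : f = 0 := by omega
    have := Fintype.one_lt_card (α := F)
    rw [hF, pow_zero] at this
    omega
  constructor
  · rintro rfl
    obtain ⟨h1, h2⟩ := size_bound le_rfl hf hF h e
    rw [H955.card_spGL, Nat.card_eq_fintype_card, hF] at h1 h2
    by_contra hcon
    have h6 : f ≤ 6 := by omega
    clear hcon hF h
    interval_cases f
    · revert h1; norm_num [Finset.prod_range_succ, Nat.factorial]
    · revert h1; norm_num [Finset.prod_range_succ, Nat.factorial]
    · revert h1; norm_num [Finset.prod_range_succ, Nat.factorial]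
    · revert h1; norm_num [Finset.prod_range_succ, Nat.factorial]
    · have h2 := h2 (by norm_num)
      revert h2; norm_num [Finset.prod_range_succ, Nat.factorial]
    · have h2 := h2 (by norm_num)
      revert h2; norm_num [Finset.prod_range_succ, Nat.factorial]
  · rintro rfl
    obtain ⟨h1, h2⟩ := size_bound (by norm_num) hf hF h e
    rw [H955.card_spGL, Nat.card_eq_fintype_card, hF] at h1 h2
    by_contra hcon
    have h6 : f ≤ 3 := by omega
    clear hcon hF h
    interval_cases f
    · revert h1; norm_num [Finset.prod_range_succ, Nat.factorial]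
    · revert h1; norm_num [Finset.prod_range_succ, Nat.factorial]
    · have h2 := h2 (by norm_num)
      revert h2; norm_num [Finset.prod_range_succ, Nat.factorial]

end Cfsg.Agent.H557.Rs
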