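import Cfsg.Agent.H557.Rs.Pair
import Cfsg.Agent.H81.CycS
import Cfsg.Agent.H370.Rg.Zsig

/-!
# S3691, `PSp_2m(2^f)`: a primitive prime divides exactly one factor (helper557, task SP68-10)

* `exists_conj_of_cycW` : two subgroups of order divisible by a weakly cyclic prime contain conjugate elements `≠ 1`
* `boxOnly : BoxOnly`
-/

set_option autoImplicit false
set_option linter.unusedSectionVars false

namespace Cfsg.Agent.H557.Rs

open Cfsg Cfsg.Geo Module Subgroup Cfsg.Agent.H454.Reg Cfsg.Agent.H925.Rs Cfsg.Agent.H659.Rs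
open Cfsg.Agent.LieClassical.OrthFinite (glEquiv)
open Cfsg.Agent.ClassicalGeometry.SympBasic
open Cfsg.Agent.H884.El (PP)
open scoped MatrixGroups Matrix

theorem exists_conj_of_cycW {K : Type*} [Group K] [Finite K] {r : ℕ} (hr : r.Prime)
    (hW : ∀ x y : K, orderOf x = r → orderOf y = r → x * y = y * x → y ∈ zpowers x) {A C : Subgroup K}
    (hA : r ∣ Nat.card A) (hC : r ∣ Nat.card C) : ∃ x ∈ A, x ≠ 1 ∧ ∃ g, g * x * g⁻¹ ∈ C := by
  have := Fact.mk hr
  obtain ⟨a, ha⟩ := exists_prime_orderOf_dvd_card' r hA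
  obtain ⟨c, hc⟩ := exists_prime_orderOf_dvd_card' r hC
  have ha' : orderOf (a : K) = r := by rw [Subgroup.orderOf_coe]; exact ha
  have hc' : orderOf (c : K) = r := by rw [Subgroup.orderOf_coe]; exact hc
  have hpg : ∀ x : K, orderOf x = r → IsPGroup r (zpowers x) := fun x hx => by
    rw [IsPGroup.iff_card]
    exact ⟨1, by rw [Nat.card_zpowers, hx, pow_one]⟩
  obtain ⟨P, hP⟩ := (hpg _ ha').exists_le_sylow
  obtain ⟨Q, hQ⟩ := (hpg _ hc').exists_le_sylow
  obtain ⟨g, hg⟩ := MulAction.exists_smul_eq K P Q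
  have h1 : g * (a : K) * g⁻¹ ∈ Q := by
    rw [← hg]
    exact Subgroup.smul_mem_pointwise_smul (a : K) (MulAut.conj g) (P : Subgroup K) (hP (mem_zpowers _))
  have h2 : orderOf (g * (a : K) * g⁻¹) = r := by
    rw [← ha']
    simpa using orderOf_injective (MulAut.conj g).toMonoidHom (MulAut.conj g).injective (a : K)
  have hcQ : (c : K) ∈ Q := hQ (mem_zpowers _)
  have hnt : Nontrivial Q := by
    refine ⟨⟨⟨(c : K), hcQ⟩, 1, fun h => ?_⟩⟩
    have h3 : (c : K) = 1 := congrArg Subtype.val h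
    rw [h3, orderOf_one] at hc'
    exact hr.ne_one hc'.symm
  have hZ : Nontrivial (Subgroup.center Q) := Q.2.center_nontrivial
  have hZr : r ∣ Nat.card (Subgroup.center Q) := by
    obtain ⟨k, hk⟩ := IsPGroup.iff_card.1 (Q.2.to_subgroup (Subgroup.center Q))
    rw [hk]
    refine dvd_pow_self r ?_
    rintro rfl
    rw [pow_zero] at hk
    exact (Finite.one_lt_card_iff_nontrivial.2 hZ).ne' hk
  obtain ⟨z, hz⟩ := exists_prime_orderOf_dvd_card' r hZr
  have hz' : orderOf ((z : Q) : K) = r := by rw [Subgroup.orderOf_coe, Subgroup.orderOf_coe]; exact hz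
  have hcomm : ∀ y : K, y ∈ Q → y * ((z : Q) : K) = ((z : Q) : K) * y := fun y hy =>
    congrArg Subtype.val (Subgroup.mem_center_iff.1 z.2 ⟨y, hy⟩)
  have h3 := hW _ _ hz' h2 (hcomm _ h1).symm
  have h4 := hW _ _ hc' hz' (hcomm _ hcQ)
  have h5 : zpowers ((z : Q) : K) ≤ C := by
    rw [Subgroup.zpowers_le]
    exact (Subgroup.zpowers_le.2 c.2) h4
  refine ⟨a, a.2, ?_, g, h5 h3⟩
  intro h6
  rw [h6, orderOf_one] at ha'
  exact hr.ne_one ha'.symm

section

variable {F : Type} [Field F] {m : ℕ}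

/-- `Sp` in its two forms -/
noncomputable def toSp (m : ℕ) (F : Type) [Field F] : spGL m F →* Matrix.symplecticGroup (Fin m) F where
  toFun g := ⟨(g.1 : Matrix (Fin m ⊕ Fin m) (Fin m ⊕ Fin m) F), mem_symplecticGroup_iff.2 (fun u v => g.2 u v)⟩
  map_one' := rfl
  map_mul' _ _ := rfl

/-- the projection to `PSp` -/
noncomputable def toPSp (m : ℕ) (F : Type) [Field F] : spGL m F →* PSp m F :=
  (QuotientGroup.mk' (Subgroup.center (Matrix.symplecticGroup (Fin m) F))).comp (toSp m F)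

theorem toPSp_injective (hm : 1 ≤ m) (h2 : (2 : F) = 0) : Function.Injective (toPSp m F) := by
  rw [injective_iff_map_eq_one]
  intro g hg
  have h1 : toSp m F g ∈ Subgroup.center (Matrix.symplecticGroup (Fin m) F) := (QuotientGroup.eq_one_iff _).1 hg
  rw [LieClassical.SympCenter.mem_center_iff] at h1
  obtain ⟨a, ha⟩ := h1
  have h3 : ((g : GL (Fin m ⊕ Fin m) F) : Matrix (Fin m ⊕ Fin m) (Fin m ⊕ Fin m) F) = a • 1 := ha
  have h4 : ∀ v, (⟨glEquiv (Fin m ⊕ Fin m) F g.1, mem_spGL_iff.1 g.2⟩ : Isos (sympBilin m F)).1 v = a • v := by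
    intro v
    change (((g : GL (Fin m ⊕ Fin m) F) : Matrix (Fin m ⊕ Fin m) (Fin m ⊕ Fin m) F)).mulVec v = a • v
    rw [h3, Matrix.smul_mulVec, Matrix.one_mulVec]
  have h5 := eq_one_of_scalar hm h2 h4
  have h6 : glEquiv (Fin m ⊕ Fin m) F g.1 = 1 := congrArg Subtype.val h5
  exact Subtype.ext ((MulEquiv.map_eq_one_iff _).1 h6)

end

theorem pm_pp {f k r : ℕ} (hf : 1 ≤ f) (hk : 1 ≤ k) (h : Pm (k * f) r) {q : ℕ} (hq : q = 2 ^ f) : PP q k r := by
  subst hq
  refine ⟨h.prime, ?_⟩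
  rw [Nat.cast_pow, orderOf_pow' _ (by omega), h.ord, Nat.gcd_eq_right (Dvd.intro_left k rfl), Nat.mul_div_cancel _ (by omega)]

theorem pm_lt {n r : ℕ} (hn : 1 ≤ n) (h : Pm n r) : n < r := by
  have hr := Fact.mk h.prime
  have h0 : ((2 : ℕ) : ZMod r) ≠ 0 := by
    intro h0
    have h1 := h.ord
    rw [h0, orderOf_eq_zero_iff'.2 (fun k hk => by rw [zero_pow hk.ne']; exact zero_ne_one)] at h1
    omega
  have h1 : n ∣ r - 1 := by
    rw [← h.ord]
    exact orderOf_dvd_of_pow_eq_one (ZMod.pow_card_sub_one_eq_one h0)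
  have h2 := h.prime.two_le
  have h3 := Nat.le_of_dvd (by omega) h1
  omega

/-- **a primitive prime divides exactly one factor** -/
theorem boxOnly : BoxOnly := by
  intro F _ _ m f k r hm hf hF hk hmk hk2 hr A C h
  have h2 : (2 : F) = 0 := two_eq_zero hf hF
  have hpp : PP (Nat.card F) k r := pm_pp hf (by omega) hr (by rw [Nat.card_eq_fintype_card]; exact hF)
  obtain ⟨c, hc, hc2⟩ := h.card
  have hfin : Finite (spGL m F) := inferInstance
  -- `r` divides the order
  have hrS : r ∣ Nat.card (spGL m F) := by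
    have h3 := H81.CycS.dvd_card_of (F := F) (m := m) (by omega) (by omega) hpp (Or.inl ⟨hk, hk2⟩)
    have h4 : Nat.card (PSp m F) ∣ Nat.card (Matrix.symplecticGroup (Fin m) F) :=
      Subgroup.card_quotient_dvd_card _
    have h5 : Nat.card (spGL m F) = Nat.card (Matrix.symplecticGroup (Fin m) F) := by
      rw [H955.card_spGL, Cfsg.Agent.S0245.result (Nat.card_eq_fintype_card (α := F)).symm m]
    rw [h5]
    exact h3.trans h4
  have hrc : ¬ r ∣ c := by
    intro h3
    have h4 := Nat.le_of_dvd (by omega) (h3.trans hc)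
    have h5 := pm_lt (Nat.mul_pos (by omega) hf) hr
    have h6 : f ≤ k * f := Nat.le_mul_of_pos_left f (by omega)
    omega
  rw [← hc2, hr.prime.dvd_mul, hr.prime.dvd_mul] at hrS
  -- not both
  have hnot : ¬ (r ∣ Nat.card A ∧ r ∣ Nat.card C) := by
    rintro ⟨hA, hC⟩
    obtain ⟨-, -, hW⟩ := H81.CycS.cycW_psp (F := F) (m := m) (by omega) (Or.inl ⟨hk, hk2, hmk⟩) hpp
    have hinj := toPSp_injective (F := F) (m := m) (by omega) h2
    have hW' : ∀ x y : spGL m F, orderOf x = r → orderOf y = r → x * y = y * x → y ∈ zpowers x := by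
      intro x y hx hy hxy
      obtain ⟨j, hj⟩ := hW (toPSp m F x) (toPSp m F y) (by rw [orderOf_injective _ hinj, hx])
        (by rw [orderOf_injective _ hinj, hy]) (by rw [← map_mul, hxy, map_mul])
      refine ⟨j, hinj ?_⟩
      simp only at hj ⊢
      rw [map_zpow, hj]
    have e1 : r ∣ Nat.card (A.subgroupOf (spGL m F)) := by
      rwa [Nat.card_congr (Subgroup.subgroupOfEquivOfLe h.le1).toEquiv]
    have e2 : r ∣ Nat.card (C.subgroupOf (spGL m F)) := by
      rwa [Nat.card_congr (Subgroup.subgroupOfEquivOfLe h.le2).toEquiv]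
    obtain ⟨x, hx, hx1, g, hg⟩ := exists_conj_of_cycW hr.prime hW' e1 e2
    exact hx1 (Subtype.ext (h.conj x hx g g.2 hg))
  tauto

end Cfsg.Agent.H557.Rs
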